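import Groth.Agent.BorelSub.Val

/-!
# Borel subgroup schemes are closed
-/

set_option autoImplicit false
set_option backward.isDefEq.respectTransparency false
set_option maxHeartbeats 1000000
set_option synthInstance.maxHeartbeats 400000

universe u

open CategoryTheory CategoryTheory.Limits MonoidalCategory CartesianMonoidalCategory MonObj GrpObj AlgebraicGeometry

noncomputable section

namespace Groth.Agent.BorelSub

variable {S : Scheme.{u}} {G B : Over S} [GrpObj G] [GrpObj B]

/-- Subgroups with parabolic geometric fibres and connected fibres are closed. -/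
theorem isClosedImmersion (i : B ⟶ G) [IsMonHom i] [IsImmersion i.left] [IsAffineHom G.hom] [Smooth G.hom]
    [Smooth B.hom] [QuasiCompact B.hom] [GeometricallyIrreducible B.hom]
    (hfib : ∀ s : S, ConnectedSpace (Red.geomFibre s G).left)
    (hP : ∀ s : S, Red.IsParabolicOver (AlgebraicClosure (S.residueField s)) ((Over.pullback (Red.geomPt s)).map i)) :
    IsClosedImmersion i.left := by
  haveI : QuasiCompact (i.left ≫ G.hom) := by rw [Over.w i]; infer_instance
  haveI : QuasiCompact i.left := QuasiCompact.of_comp i.left G.hom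
  have hex : ValuativeCriterion.Existence i.left := fun sq => by
    obtain ⟨R, K, i₁, i₂, ⟨hsq⟩⟩ := sq
    let v : Spec (CommRingCat.of R) ⟶ S := i₂ ≫ G.hom
    let g : Over.mk v ⟶ G := Over.homMk i₂
    let jK : Over.mk (Spec.map (CommRingCat.ofHom (algebraMap R K)) ≫ v) ⟶ Over.mk v :=
      Over.homMk (V := Over.mk v) (Spec.map (CommRingCat.ofHom (algebraMap R K))) rfl
    let b₀ : Over.mk (Spec.map (CommRingCat.ofHom (algebraMap R K)) ≫ v) ⟶ B :=
      Over.homMk (V := B) i₁ (by
        show i₁ ≫ B.hom = Spec.map (CommRingCat.ofHom (algebraMap R K)) ≫ i₂ ≫ G.hom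
        rw [← Category.assoc, ← hsq, Category.assoc, Over.w i])
    have hb₀ : b₀ ≫ i = jK ≫ g := Over.OverMorphism.ext hsq
    have hcl : i₂ (IsLocalRing.closedPoint R) ∈ Set.range i.left := closedPoint_mem_range i v hfib hP g b₀ hb₀
    have hall : Set.range i₂ ⊆ Set.range i.left := by
      obtain ⟨U, Z, hU, hZ, hUZ⟩ := i.left.isLocallyClosed_range
      rintro _ ⟨p, rfl⟩
      have hgen : i₂ (genericPoint (Spec (CommRingCat.of R))) ∈ Set.range i.left := by
        refine ⟨i₁ default, ?_⟩
        rw [← map_eq_genericPoint (R := R) (K := K) default, ← Scheme.Hom.comp_apply, hsq, Scheme.Hom.comp_apply]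
      rw [hUZ] at hcl hgen ⊢
      exact ⟨((IsLocalRing.specializes_closedPoint p).map i₂.continuous).mem_open hU hcl.1,
        (((genericPoint_spec (Spec (CommRingCat.of R))).specializes trivial).map i₂.continuous).mem_closed hZ hgen.2⟩
    obtain ⟨l, hl⟩ := GrpAct.exists_factor i.left i₂ hall
    exact ⟨⟨⟨l, by rw [← cancel_mono i.left, Category.assoc, hl, hsq], hl⟩⟩⟩
  haveI : UniversallyClosed i.left := UniversallyClosed.of_valuativeCriterion i.left hex
  exact IsClosedImmersion.of_isPreimmersion i.left i.left.isClosedMap.isClosed_range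

end Groth.Agent.BorelSub
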