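import Groth.Agent.ParNorm.Global
import Groth.Agent.MTBridge.ExtCentral

/-!
# Subgroups with parabolic geometric fibres, pointwise
-/

set_option autoImplicit false
set_option backward.isDefEq.respectTransparency false
set_option maxHeartbeats 1000000
set_option synthInstance.maxHeartbeats 400000

universe u

open CategoryTheory CategoryTheory.Limits MonoidalCategory CartesianMonoidalCategory MonObj GrpObj AlgebraicGeometry
open Groth.Agent.MTBridge (toBC toBC_mul toBC_comp toBC_precomp toBC_inv exists_toBC' toBC_inj)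

noncomputable section

namespace Groth.Agent.BorelSub

/-- Over an algebraically closed field parabolic subgroups are their own normalizers. -/
theorem isNormalizerOf_self_over {k : Type u} [Field k] [IsAlgClosed k]
    {G P : Over (Spec (CommRingCat.of k))} [GrpObj G] [GrpObj P] [IsAffine G.left] [Smooth G.hom]
    [ConnectedSpace G.left] {iP : P ⟶ G} (hP : Red.IsParabolicOver k iP) : Red.IsNormalizerOf iP iP := by
  haveI := ParNorm.connectedSpace_parabolic hP
  haveI := hP.1; haveI := hP.2.1; haveI := hP.2.2.1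
  haveI : IsAffineHom G.hom := inferInstance
  haveI : Mono iP := (Over.forget _).mono_of_mono_map (show Mono iP.left from inferInstance)
  haveI : QuasiCompact P.hom := by rw [← Over.w iP]; infer_instance
  haveI : GeometricallyIrreducible P.hom := GrpField.geometricallyIrreducible_of_connected_fibres P fun s => by
    convert (isConnected_univ : _root_.IsConnected (Set.univ : Set P.left))
    exact Set.eq_univ_of_forall fun x => Subsingleton.elim _ _
  obtain ⟨N, n, hn, -, hN⟩ := SubLocus.exists_normalizer (G := G) (H := P) (i := iP)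
  haveI := hn
  haveI : Mono n := (Over.forget _).mono_of_mono_map (show Mono n.left from inferInstance)
  obtain ⟨hNg, hnm⟩ := MTBridge.exists_grpObj_of_div n ((hN _ _).2 fun X' x h => by
      rw [show x ≫ η[G] = (1 : X' ⟶ G) by rw [Hom.one_def, toUnit_unique (toUnit X') x]]
      exact ⟨⟨h, by simp⟩, ⟨h, by simp⟩⟩) (fun T k₁ k₂ => (hN _ _).2 fun X' x h => by
      have h1 := (hN _ (k₁ ≫ n)).1 ⟨k₁, rfl⟩ X' x
      have h2 := (hN _ (k₂ ≫ n)).1 ⟨k₂, rfl⟩ X' x
      rw [MonObj.comp_mul, GrpObj.comp_inv]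
      constructor
      · obtain ⟨a, ha⟩ := (h2 h).1
        obtain ⟨b, hb⟩ := (h1 a).2
        exact ⟨b, by rw [← hb, ← ha]; group⟩
      · obtain ⟨a, ha⟩ := (h1 h).1
        obtain ⟨b, hb⟩ := (h2 a).2
        exact ⟨b, by rw [← hb, ← ha]; group⟩)
  obtain ⟨s, hs⟩ := (hN P iP).2 fun X' x h => by
    refine ⟨⟨x * h * x⁻¹, ?_⟩, ⟨x⁻¹ * h * x, ?_⟩⟩ <;> simp only [MonObj.mul_comp, GrpObj.inv_comp]
  haveI : IsIso s := ParNorm.isIso_to_normalizer_parabolic hP n ⟨hnm, inferInstance, hN⟩ s hs
  refine ⟨inferInstance, inferInstance, fun X g => ?_⟩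
  rw [← hN]
  constructor
  · rintro ⟨z, rfl⟩
    exact ⟨z ≫ s, by rw [Category.assoc, hs]⟩
  · rintro ⟨z, rfl⟩
    exact ⟨z ≫ inv s, by rw [← hs, Category.assoc, IsIso.inv_hom_id_assoc]⟩

variable {S : Scheme.{u}} {G B : Over S} (i : B ⟶ G)

/-- Geometrically closed subschemes have closed fibres. -/
theorem mem_range_of_specializes (hc : ∀ s : S, IsClosedImmersion ((Over.pullback (Red.geomPt s)).map i).left)
    {b : B.left} {z : G.left} (hb : i.left b ⤳ z) (hs : G.hom z = B.hom b) : z ∈ Set.range i.left := by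
  let s := B.hom b
  let j : Spec (CommRingCat.of (AlgebraicClosure (S.residueField s))) ⟶ Spec (S.residueField s) :=
    Spec.map (CommRingCat.ofHom (algebraMap (S.residueField s) (AlgebraicClosure (S.residueField s))))
  let τ := j ≫ S.fromSpecResidueField s
  let F := ((Over.pullback τ).map i).left
  haveI : IsClosedImmersion F := hc s
  let ψ : pullback G.hom τ ⟶ G.hom.fiber s :=
    pullback.lift (pullback.fst G.hom τ) (pullback.snd G.hom τ ≫ j) (by rw [Category.assoc]; exact pullback.condition)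
  have hψ : IsPullback ψ (pullback.snd G.hom τ) (pullback.snd G.hom (S.fromSpecResidueField s)) j :=
    IsPullback.of_right (by
      rw [show ψ ≫ pullback.fst G.hom (S.fromSpecResidueField s) = pullback.fst G.hom τ from pullback.lift_fst _ _ _]
      exact IsPullback.of_hasPullback G.hom τ) (pullback.lift_snd _ _ _) (IsPullback.of_hasPullback _ _)
  have hj : (@Surjective ⊓ @Flat ⊓ @QuasiCompact : MorphismProperty Scheme.{u}) j :=
    ⟨⟨inferInstance, inferInstance⟩, inferInstance⟩
  obtain ⟨⟨hψ1, hψ2⟩, hψ3⟩ : (@Surjective ⊓ @Flat ⊓ @QuasiCompact : MorphismProperty Scheme.{u}) ψ :=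
    MorphismProperty.of_isPullback hψ.flip hj
  haveI := hψ1; haveI := hψ2; haveI := hψ3
  have hq : ψ ≫ G.hom.fiberι s = pullback.fst G.hom τ := pullback.lift_fst _ _ _
  have sqA : IsPullback F (pullback.fst B.hom τ) (pullback.fst G.hom τ) i.left := by
    refine IsPullback.of_right ?_ (by simp [F, Over.pullback]) (IsPullback.of_hasPullback G.hom τ).flip
    rw [show F ≫ pullback.snd G.hom τ = pullback.snd B.hom τ from Over.w ((Over.pullback τ).map i), Over.w i]
    exact (IsPullback.of_hasPullback B.hom τ).flip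
  have hT : IsClosed (G.hom.fiberι s ⁻¹' Set.range i.left) := by
    rw [← (Flat.isQuotientMap_of_surjective ψ).isClosed_preimage]
    refine (congrArg IsClosed ?_).mpr F.isClosedEmbedding.isClosed_range
    ext x
    constructor
    · rintro ⟨y, hy⟩
      obtain ⟨p, hp, -⟩ := Scheme.exists_preimage_of_isPullback sqA x y (by
        rw [← hq, Scheme.Hom.comp_apply]; exact hy.symm)
      exact ⟨p, hp⟩
    · rintro ⟨p, rfl⟩
      refine ⟨pullback.fst B.hom τ p, ?_⟩
      rw [← Scheme.Hom.comp_apply, ← sqA.w, ← hq, Scheme.Hom.comp_apply, Scheme.Hom.comp_apply]; rfl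
  obtain ⟨z', rfl⟩ : z ∈ Set.range (G.hom.fiberι s) := (G.hom.range_fiberι s).ge hs
  obtain ⟨b', hb'⟩ : i.left b ∈ Set.range (G.hom.fiberι s) := (G.hom.range_fiberι s).ge (by
    show G.hom (i.left b) = s
    rw [← Scheme.Hom.comp_apply, Over.w i])
  rw [← hb'] at hb
  exact ((G.hom.fiberι s).isEmbedding.isInducing.specializes_iff.1 hb).mem_closed hT ⟨b, hb'.symm⟩

/-- A geometric point normalising a subgroup with parabolic geometric fibres lies in it. -/
theorem mem_range_of_normalizes [GrpObj G] [GrpObj B] [IsMonHom i] [IsAffineHom G.hom] [Smooth G.hom]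
    (hfib : ∀ s : S, ConnectedSpace (Red.geomFibre s G).left)
    (hP : ∀ s : S, Red.IsParabolicOver (AlgebraicClosure (S.residueField s)) ((Over.pullback (Red.geomPt s)).map i))
    {Ω : Type u} [Field Ω] [IsAlgClosed Ω] (y : Spec (CommRingCat.of Ω) ⟶ S) (g : Over.mk y ⟶ G)
    (h : ∀ (X' : Over S) (x : X' ⟶ Over.mk y) (b : X' ⟶ B),
      (∃ b' : X' ⟶ B, (x ≫ g) * (b ≫ i) * (x ≫ g)⁻¹ = b' ≫ i) ∧
      (∃ b' : X' ⟶ B, (x ≫ g)⁻¹ * (b ≫ i) * (x ≫ g) = b' ≫ i)) :
    g.left (IsLocalRing.closedPoint Ω) ∈ Set.range i.left := by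
  obtain ⟨⟨s, φ⟩, hy⟩ := (Scheme.SpecToEquivOfField Ω S).symm.surjective y
  letI := φ.hom.toAlgebra
  let e₀ : AlgebraicClosure (S.residueField s) →ₐ[S.residueField s] Ω := IsAlgClosed.lift
  let e : Spec (CommRingCat.of Ω) ⟶ Spec (CommRingCat.of (AlgebraicClosure (S.residueField s))) :=
    Spec.map (CommRingCat.ofHom e₀.toRingHom)
  obtain rfl : e ≫ Red.geomPt s = y := by
    rw [← hy, Red.geomPt, ← Category.assoc, ← Spec.map_comp, ← CommRingCat.ofHom_comp]
    have h2 : e₀.toRingHom.comp (algebraMap (S.residueField s) (AlgebraicClosure (S.residueField s))) = φ.hom :=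
      RingHom.ext e₀.commutes
    rw [h2]
    rfl
  haveI := hfib s
  haveI : Smooth (Red.geomFibre s G).hom := inferInstanceAs (Smooth (pullback.snd G.hom _))
  haveI : IsAffine (Red.geomFibre s G).left :=
    haveI : IsAffineHom (Red.geomFibre s G).hom := inferInstanceAs (IsAffineHom (pullback.snd G.hom _))
    isAffine_of_isAffineHom (Red.geomFibre s G).hom
  let τ := Red.geomPt s
  obtain ⟨z, hz⟩ := ((isNormalizerOf_self_over (hP s)).2.2 (Over.mk e) (toBC τ g)).2 fun X' x b => by
    obtain ⟨b₀, rfl⟩ := exists_toBC' τ b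
    obtain ⟨⟨a, ha⟩, ⟨c, hc⟩⟩ := h _ ((Over.map τ).map x) b₀
    refine ⟨⟨toBC τ a, ?_⟩, ⟨toBC τ c, ?_⟩⟩
    · have := congrArg (toBC τ) ha
      rw [toBC_mul, toBC_mul, toBC_inv, toBC_precomp, toBC_comp, toBC_comp] at this
      exact this
    · have := congrArg (toBC τ) hc
      rw [toBC_mul, toBC_mul, toBC_inv, toBC_precomp, toBC_comp, toBC_comp] at this
      exact this
  obtain ⟨z₀, rfl⟩ := exists_toBC' τ z
  obtain rfl : z₀ ≫ i = g := toBC_inj τ ((toBC_comp τ i z₀).trans hz)
  exact ⟨_, (Scheme.Hom.comp_apply z₀.left i.left _).symm⟩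

end Groth.Agent.BorelSub
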