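import Groth.Agent.BorelSub.Fibre
import Groth.Agent.ValFibre.Basic
import Groth.Agent.GrpAct.OrbitFlat
import Mathlib.AlgebraicGeometry.Geometrically.Irreducible

/-!
# Subgroups with parabolic fibres over a valuation ring: points of the generic fibre extend
-/

set_option autoImplicit false
set_option backward.isDefEq.respectTransparency false
set_option maxHeartbeats 1600000
set_option synthInstance.maxHeartbeats 400000

universe u

open CategoryTheory CategoryTheory.Limits MonoidalCategory CartesianMonoidalCategory MonObj GrpObj AlgebraicGeometry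
open Groth.Agent.Unibranch (HasChain ChainsLE chainsLE_of_specializes exists_chainsLE hasChain_of_forall_le)

noncomputable section

namespace Groth.Agent.BorelSub

variable {S : Scheme.{u}} {G B : Over S}

/-- Whiskering a morphism is a base change. -/
theorem isPullback_whiskerLeft (Y : Over S) (i : B ⟶ G) :
    IsPullback (Y ◁ i).left (snd Y B).left (snd Y G).left i.left := by
  have h : (Y ◁ i).left ≫ (fst Y G).left = (fst Y B).left := by rw [← Over.comp_left, whiskerLeft_fst]
  refine IsPullback.of_right ?_ (by rw [← Over.comp_left, ← Over.comp_left, whiskerLeft_snd])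
    (IsPullback.of_hasPullback Y.hom G.hom)
  rw [show (Y ◁ i).left ≫ pullback.fst Y.hom G.hom = pullback.fst Y.hom B.hom from h, Over.w i]
  exact IsPullback.of_hasPullback Y.hom B.hom

theorem isPullback_whiskerRight {Y Y' : Over S} (j : Y' ⟶ Y) (X : Over S) :
    IsPullback (j ▷ X).left (fst Y' X).left (fst Y X).left j.left := by
  refine IsPullback.of_right ?_ (by rw [← Over.comp_left, ← Over.comp_left, whiskerRight_fst])
    (IsPullback.of_hasPullback Y.hom X.hom).flip
  rw [show (j ▷ X).left ≫ pullback.snd Y.hom X.hom = pullback.snd Y'.hom X.hom from by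
    show (j ▷ X).left ≫ (snd Y X).left = (snd Y' X).left
    rw [← Over.comp_left, whiskerRight_snd], Over.w j]
  exact (IsPullback.of_hasPullback Y'.hom X.hom).flip

variable [GrpObj G] [GrpObj B] (i : B ⟶ G) [IsMonHom i] [IsImmersion i.left] [IsSeparated G.hom]
  [LocallyOfFiniteType G.hom] [Smooth B.hom] [GeometricallyIrreducible B.hom]
  {R K : Type u} [CommRing R] [IsDomain R] [ValuationRing R] [Field K] [Algebra R K] [IsFractionRing R K]
  (v : Spec (CommRingCat.of R) ⟶ S)

/-- The generic point of a spectrum seen from the fraction field. -/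
theorem map_eq_genericPoint (x : Spec (CommRingCat.of K)) :
    Spec.map (CommRingCat.ofHom (algebraMap R K)) x = genericPoint (Spec (CommRingCat.of R)) := by
  rw [genericPoint_eq_bot_of_affine]
  refine PrimeSpectrum.ext ?_
  show Ideal.comap (algebraMap R K) x.asIdeal = ⊥
  rw [Ideal.eq_bot_of_prime x.asIdeal, ← RingHom.ker_eq_comap_bot]
  exact (RingHom.injective_iff_ker_eq_bot _).1 (IsFractionRing.injective R K)

/-- Conjugates of points of the special fibre by an integral point with generic fibre in the subgroup stay in it. -/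
theorem mem_range_conj
    (hc : ∀ s : S, IsClosedImmersion ((Over.pullback (Red.geomPt s)).map i).left)
    (g : Over.mk v ⟶ G) (b₀ : Over.mk (Spec.map (CommRingCat.ofHom (algebraMap R K)) ≫ v) ⟶ B)
    (hb₀ : b₀ ≫ i = Over.homMk (V := Over.mk v) (Spec.map (CommRingCat.ofHom (algebraMap R K))) rfl ≫ g)
    (x : (Over.mk v ⊗ B : Over S).left) (hx : (fst (Over.mk v) B).left x = IsLocalRing.closedPoint R) :
    ((fst (Over.mk v) B ≫ g) * (snd (Over.mk v) B ≫ i) * (fst (Over.mk v) B ≫ g)⁻¹).left x ∈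
      Set.range i.left := by
  let Y : Over S := Over.mk v
  let YK : Over S := Over.mk (Spec.map (CommRingCat.ofHom (algebraMap R K)) ≫ v)
  let jK : YK ⟶ Y := Over.homMk (V := Over.mk v) (Spec.map (CommRingCat.ofHom (algebraMap R K))) rfl
  let c : Spec (CommRingCat.of R) := IsLocalRing.closedPoint R
  let o : Spec (CommRingCat.of R) := genericPoint (Spec (CommRingCat.of R))
  let fB : (Y ⊗ B).left ⟶ Spec (CommRingCat.of R) := (fst Y B).left
  let fG : (Y ⊗ G).left ⟶ Spec (CommRingCat.of R) := (fst Y G).left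
  let j : (Y ⊗ B).left ⟶ (Y ⊗ G).left := (Y ◁ i).left
  have sq := isPullback_whiskerLeft Y i
  have hj : j ≫ fG = fB := by
    show (Y ◁ i).left ≫ (fst Y G).left = (fst Y B).left
    rw [← Over.comp_left, whiskerLeft_fst]
  haveI : IsImmersion j := MorphismProperty.of_isPullback (P := @IsImmersion) sq.flip inferInstance
  haveI : LocallyOfFiniteType fB := inferInstanceAs (LocallyOfFiniteType (pullback.fst Y.hom B.hom))
  haveI : LocallyOfFiniteType fG := inferInstanceAs (LocallyOfFiniteType (pullback.fst Y.hom G.hom))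
  haveI : GeometricallyIrreducible fB := inferInstanceAs (GeometricallyIrreducible (pullback.fst Y.hom B.hom))
  haveI : Smooth fB := inferInstanceAs (Smooth (pullback.fst Y.hom B.hom))
  have hmem : ∀ z : (Y ⊗ G).left, (snd Y G).left z ∈ Set.range i.left → z ∈ Set.range j := fun z ⟨b, hb⟩ => by
    obtain ⟨p, hp, -⟩ := Scheme.exists_preimage_of_isPullback sq z b hb.symm
    exact ⟨p, hp⟩
  -- the subgroup is closed in every fibre
  have hclosed : ∀ (b : (Y ⊗ B).left) (z : (Y ⊗ G).left), j b ⤳ z → fG z = fB b → z ∈ Set.range j := fun b z hbz hf => by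
    refine hmem z (mem_range_of_specializes i hc (b := (snd Y B).left b) ?_ ?_)
    · rw [← Scheme.Hom.comp_apply, ← sq.w, Scheme.Hom.comp_apply]
      exact hbz.map (snd Y G).left.continuous
    · rw [← Scheme.Hom.comp_apply, ← Scheme.Hom.comp_apply, Over.w, Over.w,
        show (Y ⊗ G).hom = fG ≫ v from (Over.w (fst Y G)).symm,
        show (Y ⊗ B).hom = fB ≫ v from (Over.w (fst Y B)).symm, Scheme.Hom.comp_apply, Scheme.Hom.comp_apply, hf]
  -- the family of products `b g b' g⁻¹`
  let W : Over S := (Y ⊗ B) ⊗ B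
  let fW : W.left ⟶ Spec (CommRingCat.of R) := (fst (Y ⊗ B) B).left ≫ fB
  haveI : GeometricallyIrreducible (fst (Y ⊗ B) B).left :=
    inferInstanceAs (GeometricallyIrreducible (pullback.fst (Y ⊗ B).hom B.hom))
  haveI : Smooth (fst (Y ⊗ B) B).left := inferInstanceAs (Smooth (pullback.fst (Y ⊗ B).hom B.hom))
  haveI : Smooth fW := inferInstance
  let yW : W ⟶ Y := fst _ _ ≫ fst Y B
  let b₁ : W ⟶ B := fst _ _ ≫ snd Y B
  let b₂ : W ⟶ B := snd _ _
  let μW : W ⟶ Y ⊗ G := lift yW ((b₁ ≫ i) * (yW ≫ g) * (b₂ ≫ i) * (yW ≫ g)⁻¹)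
  have hμ : μW.left ≫ fG = fW := by
    show μW.left ≫ (fst Y G).left = (fst (Y ⊗ B) B).left ≫ (fst Y B).left
    rw [← Over.comp_left, ← Over.comp_left, lift_fst]
  -- the generic fibre maps into the subgroup
  have hgen : ∀ w : W.left, fW w = o → μW.left w ∈ j '' (fB ⁻¹' {o}) := fun w hw => by
    obtain ⟨p₁, hp₁, -⟩ := Scheme.exists_preimage_of_isPullback (isPullback_whiskerRight jK B)
      ((fst (Y ⊗ B) B).left w) (IsLocalRing.closedPoint K) (by
        refine (show fB ((fst (Y ⊗ B) B).left w) = o from ?_).trans (map_eq_genericPoint (R := R) _).symm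
        rw [← Scheme.Hom.comp_apply]; exact hw)
    obtain ⟨p, hp, -⟩ := Scheme.exists_preimage_of_isPullback (isPullback_whiskerRight (jK ▷ B) B) w p₁ hp₁.symm
    let u : (YK ⊗ B) ⊗ B ⟶ W := (jK ▷ B) ▷ B
    let y' : (YK ⊗ B) ⊗ B ⟶ YK := fst _ _ ≫ fst _ _
    let z : (YK ⊗ B) ⊗ B ⟶ B :=
      (fst _ _ ≫ snd _ _) * (y' ≫ b₀) * snd _ _ * (y' ≫ b₀)⁻¹
    have hz : u ≫ μW ≫ snd Y G = z ≫ i := by
      have h1 : u ≫ yW = y' ≫ jK := by simp [u, yW, y']
      have h2 : u ≫ b₁ = fst _ _ ≫ snd _ _ := by simp [u, b₁]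
      have h3 : u ≫ b₂ = snd _ _ := by simp [u, b₂]
      simp only [μW, z, lift_snd, MonObj.comp_mul, GrpObj.comp_inv, MonObj.mul_comp, GrpObj.inv_comp, Category.assoc,
        reassoc_of% h1, reassoc_of% h2, reassoc_of% h3]
      rw [hb₀]
    obtain ⟨q, hq⟩ := hmem (μW.left w) ⟨z.left p, by
      rw [← hp, ← Scheme.Hom.comp_apply, ← Scheme.Hom.comp_apply, ← Scheme.Hom.comp_apply, ← Over.comp_left,
        ← Over.comp_left, ← Over.comp_left, ← Category.assoc]
      exact congrArg (fun m : _ ⟶ G => m.left p) (by rw [Category.assoc, hz])⟩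
    refine ⟨q, ?_, hq⟩
    rw [Set.mem_preimage, Set.mem_singleton_iff, ← hj, Scheme.Hom.comp_apply, hq, ← Scheme.Hom.comp_apply, hμ, hw]
  -- generic points of the fibres
  have hopB : IsOpenMap fB := fB.isOpenMap
  have hio : IsIrreducible (fB ⁻¹' {o}) := fB.isIrreducible_preimage hopB isIrreducible_singleton
  have hc1 : IsClosed ({c} : Set (Spec (CommRingCat.of R))) := IsLocalRing.isClosed_singleton_closedPoint R
  have hic : IsIrreducible (fB ⁻¹' {c}) := fB.isIrreducible_preimage hopB isIrreducible_singleton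
  have hiW : IsIrreducible (fW ⁻¹' {c}) :=
    (fst (Y ⊗ B) B).left.isIrreducible_preimage (fst (Y ⊗ B) B).left.isOpenMap hic
  let ξ := hio.genericPoint
  have hξ : closure {ξ} = closure (fB ⁻¹' {o}) := hio.isGenericPoint_genericPoint_closure
  let β := hic.genericPoint
  have hβ : closure {β} = fB ⁻¹' {c} := (hic.isGenericPoint_genericPoint (hc1.preimage fB.continuous))
  let q := hiW.genericPoint
  have hq : closure {q} = fW ⁻¹' {c} := (hiW.isGenericPoint_genericPoint (hc1.preimage fW.continuous))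
  have hβc : fB β = c := hβ.le (subset_closure rfl)
  have hqc : fW q = c := hq.le (subset_closure rfl)
  have hdense : closure ({o} : Set (Spec (CommRingCat.of R))) = Set.univ :=
    (genericPoint_spec (Spec (CommRingCat.of R))).def
  have hξo : fB ξ = o := by
    obtain ⟨e, he⟩ := hio.nonempty
    have h1 : ξ ⤳ e := specializes_iff_mem_closure.2 (hξ.ge (subset_closure he))
    have h2 : fB ξ ⤳ o := (h1.map fB.continuous).trans (specializes_of_eq he)
    exact h2.antisymm ((genericPoint_spec (Spec (CommRingCat.of R))).specializes trivial) |>.eq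
  have hξβ : ξ ⤳ β := specializes_iff_mem_closure.2 (by
    rw [hξ, ← hopB.preimage_closure_eq_closure_preimage fB.continuous, hdense]; trivial)
  have hμξ : ∀ w : W.left, j ξ ⤳ μW.left w := fun w => by
    refine specializes_iff_mem_closure.2 ?_
    have hw : w ∈ closure (fW ⁻¹' {o}) := by
      rw [← fW.isOpenMap.preimage_closure_eq_closure_preimage fW.continuous, hdense]; trivial
    refine closure_minimal ?_ isClosed_closure (image_closure_subset_closure_image μW.left.continuous ⟨w, hw, rfl⟩)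
    rintro _ ⟨w', hw', rfl⟩
    obtain ⟨b, hb, hbj⟩ := hgen w' hw'
    rw [← hbj]
    exact image_closure_subset_closure_image j.continuous ⟨b, hξ.ge (subset_closure hb), rfl⟩ |> fun h => by
      simpa using h
  -- the section `b ↦ (b, 1)`
  let e₁ : Y ⊗ B ⟶ W := lift (𝟙 _) 1
  have he₁ : e₁ ≫ μW = Y ◁ i := by
    apply CartesianMonoidalCategory.hom_ext
    · simp [e₁, μW, yW]
    · have h1 : e₁ ≫ yW = fst Y B := by simp [e₁, yW]
      have h2 : e₁ ≫ b₁ = snd Y B := by simp [e₁, b₁]
      have h3 : e₁ ≫ b₂ = 1 := by simp [e₁, b₂]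
      simp only [μW, Category.assoc, lift_snd, MonObj.comp_mul, GrpObj.comp_inv, reassoc_of% h1, reassoc_of% h2,
        reassoc_of% h3, whiskerLeft_snd, MonObj.one_comp, _root_.mul_one, mul_inv_cancel_right]
  have hQβ : μW.left q ⤳ j β := by
    have : q ⤳ e₁.left β := specializes_iff_mem_closure.2 (hq.ge (by
      rw [Set.mem_preimage, Set.mem_singleton_iff, ← Scheme.Hom.comp_apply,
        show e₁.left ≫ fW = fB from by
          show e₁.left ≫ (fst (Y ⊗ B) B).left ≫ (fst Y B).left = (fst Y B).left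
          rw [← Category.assoc, ← Over.comp_left, lift_fst]; simp]
      exact hβc))
    have h := this.map μW.left.continuous
    rw [← Scheme.Hom.comp_apply, ← Over.comp_left, he₁] at h
    exact h
  have hQc : fG (μW.left q) = c := by rw [← Scheme.Hom.comp_apply, hμ, hqc]
  -- dimensions
  have hQ : μW.left q ∈ Set.range j := by
    by_contra hQ
    classical
    let d := Nat.find (exists_chainsLE fB β)
    have hd : ChainsLE fB (closure {β}) (fB β) d := Nat.find_spec (exists_chainsLE fB β)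
    obtain ⟨ch, hch, hch'⟩ : HasChain fB (closure {β}) (fB β) d :=
      hasChain_of_forall_le ⟨β, subset_closure rfl, rfl⟩ fun e he => Nat.find_min' _ he
    have hbig : HasChain fG (closure {μW.left q}) (fG (μW.left q)) (d + 1) := by
      refine ⟨Fin.cons (μW.left q) (j ∘ ch), fun k => ?_, fun k => ?_⟩
      · cases k using Fin.cases with
        | zero => simp only [Fin.cons_zero]; exact ⟨subset_closure rfl, trivial⟩
        | succ k =>
          simp only [Fin.cons_succ, Function.comp_apply]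
          refine ⟨specializes_iff_mem_closure.1 (hQβ.trans ((specializes_iff_mem_closure.2 (hch k).1).map j.continuous)), ?_⟩
          rw [← Scheme.Hom.comp_apply, hj, hQc, (hch k).2, hβc]
      · cases k using Fin.cases with
        | zero =>
          exact ⟨hQβ.trans ((specializes_iff_mem_closure.2 (hch 0).1).map j.continuous), fun h => hQ ⟨ch 0, h.symm⟩⟩
        | succ k =>
          simp only [← Fin.succ_castSucc, Fin.cons_succ, Function.comp_apply]
          exact ⟨(hch' k).1.map j.continuous, fun h => (hch' k).2 (j.isEmbedding.injective h)⟩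
    obtain ⟨cg, hcg, hcg'⟩ := ValFibre.hasChain_of_specializes fG (hμξ q) hbig
    have hfξ : fG (j ξ) = fB ξ := by rw [← Scheme.Hom.comp_apply, hj]
    choose pre hpre using fun k => hclosed ξ (cg k) (specializes_iff_mem_closure.2 (hcg k).1) ((hcg k).2.trans hfξ)
    have hsmall : HasChain fB (closure {ξ}) (fB ξ) (d + 1) := by
      refine ⟨pre, fun k => ⟨?_, ?_⟩, fun k => ?_⟩
      · refine specializes_iff_mem_closure.1 (j.isEmbedding.isInducing.specializes_iff.1 ?_)
        rw [hpre]; exact specializes_iff_mem_closure.2 (hcg k).1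
      · rw [← hj, Scheme.Hom.comp_apply, hpre, (hcg k).2, hfξ, hj]
      · refine ⟨j.isEmbedding.isInducing.specializes_iff.1 ?_, fun h => (hcg' k).2 ?_⟩
        · rw [hpre, hpre]; exact (hcg' k).1
        · rw [← hpre, ← hpre, h]
    have := hsmall.le (chainsLE_of_specializes fB hξβ (U := ⊤) trivial fun k c' hc' hc'' =>
      hd k c' (fun l => ⟨hβ.ge ((hc' l).2.trans hβc), (hc' l).2⟩) hc'')
    omega
  -- conclusion
  obtain ⟨bQ, hbQ⟩ := hQ
  let e₂ : Y ⊗ B ⟶ W := lift (lift (fst Y B) 1) (snd Y B)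
  have he₂ : e₂ ≫ μW ≫ snd Y G = (fst Y B ≫ g) * (snd Y B ≫ i) * (fst Y B ≫ g)⁻¹ := by
    have h1 : e₂ ≫ yW = fst Y B := by simp [e₂, yW]
    have h2 : e₂ ≫ b₁ = 1 := by simp [e₂, b₁]
    have h3 : e₂ ≫ b₂ = snd Y B := by simp [e₂, b₂]
    simp only [μW, lift_snd, MonObj.comp_mul, GrpObj.comp_inv, reassoc_of% h1, reassoc_of% h2,
      reassoc_of% h3, MonObj.one_comp, _root_.one_mul]
  show ((fst Y B ≫ g) * (snd Y B ≫ i) * (fst Y B ≫ g)⁻¹).left x ∈ Set.range i.left
  rw [← he₂, Over.comp_left, Over.comp_left, Scheme.Hom.comp_apply, Scheme.Hom.comp_apply]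
  have hfe : fW (e₂.left x) = c := by
    rw [← Scheme.Hom.comp_apply, show e₂.left ≫ fW = fB from by
      show e₂.left ≫ (fst (Y ⊗ B) B).left ≫ (fst Y B).left = (fst Y B).left
      rw [← Category.assoc, ← Over.comp_left, lift_fst, ← Over.comp_left, lift_fst]]
    exact hx
  have hQx : j bQ ⤳ μW.left (e₂.left x) :=
    hbQ ▸ (specializes_iff_mem_closure.2 (hq.ge hfe) : q ⤳ e₂.left x).map μW.left.continuous
  obtain ⟨p, hp⟩ := hclosed bQ _ hQx (by
    rw [← Scheme.Hom.comp_apply, hμ, hfe, ← hj, Scheme.Hom.comp_apply, hbQ, hQc])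
  refine ⟨(snd Y B).left p, ?_⟩
  rw [← hp, ← Scheme.Hom.comp_apply, ← sq.w, Scheme.Hom.comp_apply]

/-- An integral point whose generic fibre lies in the subgroup has its special fibre there. -/
theorem closedPoint_mem_range [Smooth G.hom] [IsAffineHom G.hom]
    (hfib : ∀ s : S, ConnectedSpace (Red.geomFibre s G).left)
    (hP : ∀ s : S, Red.IsParabolicOver (AlgebraicClosure (S.residueField s)) ((Over.pullback (Red.geomPt s)).map i))
    (g : Over.mk v ⟶ G) (b₀ : Over.mk (Spec.map (CommRingCat.ofHom (algebraMap R K)) ≫ v) ⟶ B)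
    (hb₀ : b₀ ≫ i = Over.homMk (V := Over.mk v) (Spec.map (CommRingCat.ofHom (algebraMap R K))) rfl ≫ g) :
    g.left (IsLocalRing.closedPoint R) ∈ Set.range i.left := by
  let Y : Over S := Over.mk v
  let Ω := AlgebraicClosure (IsLocalRing.ResidueField R)
  let ec : Spec (CommRingCat.of Ω) ⟶ Spec (CommRingCat.of R) :=
    Spec.map (CommRingCat.ofHom ((algebraMap (IsLocalRing.ResidueField R) Ω).comp (IsLocalRing.residue R)))
  have hec : ∀ z, ec z = IsLocalRing.closedPoint R := fun z => PrimeSpectrum.ext (by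
    show Ideal.comap ((algebraMap (IsLocalRing.ResidueField R) Ω).comp (IsLocalRing.residue R)) z.asIdeal = _
    rw [Ideal.eq_bot_of_prime z.asIdeal, ← RingHom.ker_eq_comap_bot, RingHom.ker_comp_of_injective _
      (RingHom.injective _), IsLocalRing.ker_residue]
    rfl)
  let Yc : Over S := Over.mk (ec ≫ v)
  let jc : Yc ⟶ Y := Over.homMk (V := Over.mk v) ec rfl
  haveI : Smooth (fst Yc B).left := inferInstanceAs (Smooth (pullback.fst Yc.hom B.hom))
  haveI : IsReduced (Yc ⊗ B).left := SmoothRed.isReduced_of_smooth_scheme (R := CommRingCat.of Ω) (fst Yc B).left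
  have key : ∀ (g' : Y ⟶ G) (b' : Over.mk (Spec.map (CommRingCat.ofHom (algebraMap R K)) ≫ v) ⟶ B),
      b' ≫ i = Over.homMk (V := Over.mk v) (Spec.map (CommRingCat.ofHom (algebraMap R K))) rfl ≫ g' →
        ∃ f : Yc ⊗ B ⟶ B, f ≫ i =
          (fst Yc B ≫ jc ≫ g') * (snd Yc B ≫ i) * (fst Yc B ≫ jc ≫ g')⁻¹ := fun g' b' hb' => by
    have e : (fst Yc B ≫ jc ≫ g') * (snd Yc B ≫ i) * (fst Yc B ≫ jc ≫ g')⁻¹ =
        (jc ▷ B) ≫ ((fst Y B ≫ g') * (snd Y B ≫ i) * (fst Y B ≫ g')⁻¹) := by
      simp only [MonObj.comp_mul, GrpObj.comp_inv, whiskerRight_fst_assoc, whiskerRight_snd_assoc]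
    rw [e]
    obtain ⟨f, hf⟩ := GrpAct.exists_factor i.left ((jc ▷ B) ≫ ((fst Y B ≫ g') * (snd Y B ≫ i) * (fst Y B ≫ g')⁻¹)).left (by
      rintro _ ⟨z, rfl⟩
      rw [Over.comp_left, Scheme.Hom.comp_apply]
      refine mem_range_conj i v (fun s => (hP s).2.1) g' b' hb' _ ?_
      rw [← Scheme.Hom.comp_apply, ← Over.comp_left, whiskerRight_fst, Over.comp_left, Scheme.Hom.comp_apply]
      exact hec _)
    exact ⟨Over.homMk f (by rw [← Over.w i, ← Category.assoc, hf]; exact Over.w _), Over.OverMorphism.ext hf⟩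
  obtain ⟨f₁, hf₁⟩ := key g b₀ hb₀
  obtain ⟨f₂, hf₂⟩ := key g⁻¹ b₀⁻¹ (by rw [GrpObj.inv_comp, hb₀, GrpObj.comp_inv])
  have h := mem_range_of_normalizes i hfib hP (Ω := Ω) (ec ≫ v) (jc ≫ g) fun X' x h => by
    let l : X' ⟶ Yc ⊗ B := lift (show X' ⟶ Yc from x) h
    have l1 : l ≫ fst Yc B = x := lift_fst _ _
    have l2 : l ≫ snd Yc B = h := lift_snd _ _
    have e1 := congrArg (l ≫ ·) hf₁
    have e2 := congrArg (l ≫ ·) hf₂
    simp only [MonObj.comp_mul, GrpObj.comp_inv, reassoc_of% l1, reassoc_of% l2, _root_.inv_inv] at e1 e2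
    exact ⟨⟨l ≫ f₁, by rw [Category.assoc, e1]⟩, ⟨l ≫ f₂, by rw [Category.assoc, e2]⟩⟩
  rw [Over.comp_left, Scheme.Hom.comp_apply] at h
  rwa [show jc.left (IsLocalRing.closedPoint Ω) = IsLocalRing.closedPoint R from hec _] at h

end Groth.Agent.BorelSub
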